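import Mathlib

/-!
# Fibre dimension bounds in terms of chains of primes (helper8)

`FibLT φ U n`: every chain of primes of `S` inside `U` with constant contraction along
`φ : A →+* S` has length `< n`.  This is an instance-free way of bounding the dimension of the
fibres of `Spec S → Spec A`.
-/

set_option autoImplicit false
set_option linter.style.haveILetI false
set_option linter.unusedSectionVars false

namespace Groth.Agent.H8.FD

open PrimeSpectrum

universe u v w

variable {A : Type u} {A' : Type v} {S : Type w} [CommRing A] [CommRing A'] [CommRing S]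

/-- Every chain of primes of `S` inside `U` with constant contraction along `φ` has length
`< n`. -/
def FibLT (φ : A →+* S) (U : Set (PrimeSpectrum S)) (n : ℕ) : Prop :=
  ∀ l : LTSeries (PrimeSpectrum S), (∀ i, l i ∈ U) →
    (∀ i j, PrimeSpectrum.comap φ (l i) = PrimeSpectrum.comap φ (l j)) → l.length < n

theorem FibLT.mono_set {φ : A →+* S} {U V : Set (PrimeSpectrum S)} {n : ℕ} (hUV : U ⊆ V)
    (h : FibLT φ V n) : FibLT φ U n :=
  fun l hl hc => h l (fun i => hUV (hl i)) hc

theorem FibLT.mono {φ : A →+* S} {U : Set (PrimeSpectrum S)} {n m : ℕ} (hnm : n ≤ m)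
    (h : FibLT φ U n) : FibLT φ U m :=
  fun l hl hc => (h l hl hc).trans_le hnm

/-- If the image of `φ` is contained in the image of `φ'`, then a bound for `φ` gives a bound for
`φ'`. -/
theorem FibLT.of_range_le {φ : A →+* S} {φ' : A' →+* S} {U : Set (PrimeSpectrum S)} {n : ℕ}
    (hr : ∀ x, φ x ∈ Set.range φ') (h : FibLT φ U n) : FibLT φ' U n := by
  intro l hl hc
  refine h l hl (fun i j => ?_)
  ext x
  obtain ⟨y, hy⟩ := hr x
  have h1 := hc i j
  have h2 : y ∈ (PrimeSpectrum.comap φ' (l i)).asIdeal ↔ y ∈ (PrimeSpectrum.comap φ' (l j)).asIdeal := by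
    rw [h1]
  simp only [PrimeSpectrum.comap_asIdeal, Ideal.mem_comap] at h2 ⊢
  rw [← hy]
  exact h2

theorem FibLT.comp {A'' : Type*} [CommRing A''] {φ : A →+* S} (θ : A'' →+* A)
    {U : Set (PrimeSpectrum S)} {n : ℕ} (h : FibLT (φ.comp θ) U n) : FibLT φ U n :=
  FibLT.of_range_le (fun x => ⟨θ x, rfl⟩) h

theorem FibLT.comp_surjective {A'' : Type*} [CommRing A''] {φ : A →+* S} (θ : A'' →+* A)
    (hθ : Function.Surjective θ)
    {U : Set (PrimeSpectrum S)} {n : ℕ} (h : FibLT φ U n) : FibLT (φ.comp θ) U n :=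
  FibLT.of_range_le (fun x => by obtain ⟨y, rfl⟩ := hθ x; exact ⟨y, rfl⟩) h

/-- In a single fibre. -/
theorem withBot_le_iff_lt_succ (x : WithBot ℕ∞) (d : ℕ) : x ≤ (d : WithBot ℕ∞) ↔ x < ((d + 1 : ℕ) : WithBot ℕ∞) := by
  induction x using WithBot.recBotCoe with
  | bot => simp
  | coe y =>
    have h1 : ((d : ℕ) : WithBot ℕ∞) = ((d : ℕ∞) : WithBot ℕ∞) := rfl
    have h2 : (((d + 1 : ℕ)) : WithBot ℕ∞) = (((d + 1 : ℕ) : ℕ∞) : WithBot ℕ∞) := rfl
    rw [h1, h2, WithBot.coe_le_coe, WithBot.coe_lt_coe]
    push_cast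
    exact (ENat.lt_add_one_iff (ENat.natCast_ne_top d)).symm

section Bridge

variable {R T : Type*} [CommRing R] [CommRing T] [Algebra R T]

/-- chains in the ambient order inside a set versus chains in the subtype -/
theorem krullDim_subtype_lt_iff {α : Type*} [Preorder α] (U : Set α) (n : ℕ) :
    Order.krullDim U < n ↔ ∀ l : LTSeries α, (∀ i, l i ∈ U) → l.length < n := by
  rw [Order.krullDim_lt_coe_iff]
  constructor
  · intro h l hl
    let l' : LTSeries U :=
      { length := l.length
        toFun := fun i => ⟨l i, hl i⟩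
        step := fun i => l.step i }
    exact h l'
  · intro h l
    have := h (l.map Subtype.val (fun _ _ hab => hab)) (fun i => (l i).2)
    simpa using this

/-- The dimension of the fibre ring over `P` is `< n` iff all chains of primes of `T` over `P`
have length `< n`. -/
theorem ringKrullDim_fiber_lt_iff (P : PrimeSpectrum R) (n : ℕ) :
    ringKrullDim (P.asIdeal.Fiber T) < n ↔
      FibLT (algebraMap R T) (PrimeSpectrum.comap (algebraMap R T) ⁻¹' {P}) n := by
  rw [ringKrullDim, ← Order.krullDim_eq_of_orderIso (PrimeSpectrum.preimageOrderIsoFiber R T P),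
    krullDim_subtype_lt_iff]
  constructor
  · intro h l hl _
    exact h l hl
  · intro h l hl
    refine h l hl (fun i j => ?_)
    rw [Set.mem_singleton_iff.mp (hl i), Set.mem_singleton_iff.mp (hl j)]

theorem ringKrullDim_fiber_le_iff (P : PrimeSpectrum R) (d : ℕ) :
    ringKrullDim (P.asIdeal.Fiber T) ≤ d ↔
      FibLT (algebraMap R T) (PrimeSpectrum.comap (algebraMap R T) ⁻¹' {P}) (d + 1) := by
  rw [withBot_le_iff_lt_succ, ringKrullDim_fiber_lt_iff]

/-- All fibres have dimension `< n` iff `FibLT` on the whole spectrum. -/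
theorem forall_ringKrullDim_fiber_lt_iff (n : ℕ) :
    (∀ P : PrimeSpectrum R, ringKrullDim (P.asIdeal.Fiber T) < n) ↔
      FibLT (algebraMap R T) Set.univ n := by
  constructor
  · intro h l _ hc
    have := (ringKrullDim_fiber_lt_iff (T := T) (PrimeSpectrum.comap (algebraMap R T) (l 0)) n).mp
      (h _) l (fun i => by
        rw [Set.mem_preimage, Set.mem_singleton_iff]
        exact hc i 0) hc
    exact this
  · intro h P
    rw [ringKrullDim_fiber_lt_iff]
    exact h.mono_set (Set.subset_univ _)

theorem forall_ringKrullDim_fiber_le_iff (d : ℕ) :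
    (∀ P : PrimeSpectrum R, ringKrullDim (P.asIdeal.Fiber T) ≤ d) ↔
      FibLT (algebraMap R T) Set.univ (d + 1) := by
  rw [← forall_ringKrullDim_fiber_lt_iff]
  exact forall_congr' fun P => withBot_le_iff_lt_succ _ _

end Bridge

end Groth.Agent.H8.FD
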