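import Mathlib

/-!
# Finite subcovers in the constructible topology (helper8)
-/

set_option autoImplicit false
set_option linter.style.haveILetI false
set_option linter.unusedSectionVars false

namespace Groth.Agent.H8.FD

open Topology

theorem compactSpace_constructibleTopology (X : Type*) [TopologicalSpace X] [CompactSpace X]
    [QuasiSober X] [PrespectralSpace X] [QuasiSeparatedSpace X] :
    @CompactSpace X (constructibleTopology X) := by
  have h := compactSpace_withConstructibleTopology (X := X)
  exact @Function.Surjective.compactSpace (WithConstructibleTopology X) X _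
    (constructibleTopology X) WithTopology.ofTopology
    (WithTopology.continuous_ofTopology _) h (WithTopology.ofTopology_surjective _)

/-- A cover by sets open in the constructible topology has a finite subcover. -/
theorem exists_finite_subcover_constructible {X : Type*} [TopologicalSpace X] [CompactSpace X]
    [QuasiSober X] [PrespectralSpace X] [QuasiSeparatedSpace X] {ι : Type*} (U : ι → Set X)
    (hU : ∀ i, IsOpen[constructibleTopology X] (U i)) (hcov : ∀ x, ∃ i, x ∈ U i) :
    ∃ t : Finset ι, ∀ x, ∃ i ∈ t, x ∈ U i := by
  haveI hc := compactSpace_constructibleTopology X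
  obtain ⟨t, ht⟩ := @IsCompact.elim_finite_subcover X (constructibleTopology X) Set.univ ι
    (@isCompact_univ X (constructibleTopology X) hc) U hU
    (fun x _ => Set.mem_iUnion.mpr (hcov x))
  refine ⟨t, fun x => ?_⟩
  have := ht (Set.mem_univ x)
  simpa using this

/-- In a prime spectrum, `D(s) ∩ V(g)` is open in the constructible topology. -/
theorem isOpen_constructible_basicOpen_inter_zeroLocus {S : Type*} [CommRing S] (s g : S) :
    IsOpen[constructibleTopology (PrimeSpectrum S)]
      ((PrimeSpectrum.basicOpen s : Set (PrimeSpectrum S)) ∩ PrimeSpectrum.zeroLocus {g}) := by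
  apply @IsOpen.inter _ (constructibleTopology (PrimeSpectrum S))
  · exact (PrimeSpectrum.isCompact_basicOpen s).isOpen_constructibleTopology_of_isOpen
      (PrimeSpectrum.basicOpen s).2
  · refine IsCompact.isOpen_constructibleTopology_of_isClosed ?_
      (PrimeSpectrum.isClosed_zeroLocus _)
    have : (PrimeSpectrum.zeroLocus ({g} : Set S))ᶜ =
        (PrimeSpectrum.basicOpen g : Set (PrimeSpectrum S)) := by
      rw [PrimeSpectrum.basicOpen_eq_zeroLocus_compl]
    rw [this]
    exact PrimeSpectrum.isCompact_basicOpen g

end Groth.Agent.H8.FD
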