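import Mathlib

/-!
# A degree lemma (helper8)

If `F(x, u) = ∑ g_j(x) u^j` with all `g_j` of `x`-degree `< n` vanishes after substituting
`u = e - x^n`, then `F = 0`.
-/

set_option autoImplicit false
set_option linter.style.haveILetI false
set_option linter.unusedSectionVars false

namespace Groth.Agent.H8.FD

open Polynomial

variable {E : Type*} [CommRing E]

theorem eq_zero_of_eval_sub_pow_eq_zero (e : E) (n : ℕ) (F : E[X][X])
    (hdeg : ∀ j, (F.coeff j).natDegree < n)
    (h0 : F.eval (C e - X ^ n) = 0) : F = 0 := by
  rcases subsingleton_or_nontrivial E with hE | hE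
  · exact Subsingleton.elim _ _
  have hn : n ≠ 0 := by
    rintro rfl
    exact absurd (hdeg 0) (Nat.not_lt_zero _)
  -- strong induction on the degree of `F`
  suffices H : ∀ k : ℕ, ∀ F : E[X][X], F.natDegree ≤ k → (∀ j, (F.coeff j).natDegree < n) →
      F.eval (C e - X ^ n) = 0 → F = 0 from H _ F le_rfl hdeg h0
  intro k
  induction k with
  | zero =>
    intro F hF hdeg h0
    rw [Polynomial.eq_C_of_natDegree_le_zero hF] at h0 ⊢
    rw [eval_C] at h0
    rw [h0, map_zero]
  | succ k ih =>
    intro F hF hdeg h0
    set m : E[X] := X ^ n - C e with hm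
    have hmonic : m.Monic := monic_X_pow_sub_C e hn
    have hmdeg : m.natDegree = n := natDegree_X_pow_sub_C
    have hr : C e - X ^ n = -m := by rw [hm]; ring
    set h : E[X] := (divX F).eval (C e - X ^ n) with hh
    have hF' : F = divX F * X + C (F.coeff 0) := (divX_mul_X_add F).symm
    have h1 : h * (C e - X ^ n) + F.coeff 0 = 0 := by
      rw [hF'] at h0
      simpa [eval_add, eval_mul, eval_X, eval_C] using h0
    have hh0 : h = 0 := by
      by_contra hne
      have h2 : F.coeff 0 = m * h := by
        rw [hr] at h1
        linear_combination h1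
      have h3 : (m * h).natDegree = n + h.natDegree := by
        rw [hmonic.natDegree_mul' hne, hmdeg]
      have h4 := hdeg 0
      rw [h2, h3] at h4
      omega
    have hc0 : F.coeff 0 = 0 := by
      rw [hh0, zero_mul, zero_add] at h1
      exact h1
    have hd : divX F = 0 := by
      apply ih (divX F)
      · rw [natDegree_divX_eq_natDegree_tsub_one]
        omega
      · intro j
        rw [coeff_divX]
        exact hdeg (j + 1)
      · exact hh0
    rw [hF', hd, hc0, zero_mul, map_zero, add_zero]

end Groth.Agent.H8.FD
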