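import Mathlib
import Groth.Agent.Lib.Helper55.DimTrdeg

/-!
# Dimension of a finite type domain via its generic fibre over a line (helper8)

`F` a finite type domain over a field `κ`, `t ∈ F` transcendental.  If all chains of primes of `F`
which meet `κ[t] \ {0}` trivially have length `< e`, then `dim F < e + 1`.
-/

set_option autoImplicit false
set_option linter.style.haveILetI false
set_option linter.unusedSectionVars false

namespace Groth.Agent.H8.FD

open Polynomial Cardinal

universe u

theorem comap_strictMono_of_injective {R S : Type*} [CommRing R] [CommRing S] (f : R →+* S)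
    (hf : Function.Injective (PrimeSpectrum.comap f)) : StrictMono (PrimeSpectrum.comap f) := by
  have hmono : Monotone (PrimeSpectrum.comap f) := fun x y hxy => by
    rw [← PrimeSpectrum.asIdeal_le_asIdeal] at hxy ⊢
    exact Ideal.comap_mono hxy
  exact hmono.strictMono_of_injective hf

section

variable (κ F : Type u) [Field κ] [CommRing F] [IsDomain F]
    [Algebra κ F] [Algebra.FiniteType κ F] [Algebra κ[X] F] [IsScalarTower κ κ[X] F]

theorem ringKrullDim_lt_succ_of_generic_aux
    (hinj : Function.Injective (algebraMap κ[X] F)) (e : ℕ)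
    (h : ∀ l : LTSeries (PrimeSpectrum F),
      (∀ i, ∀ g : κ[X], algebraMap κ[X] F g ∈ (l i).asIdeal → g = 0) → l.length < e) :
    ringKrullDim F < ((e + 1 : ℕ) : WithBot ℕ∞) := by
  classical
  have hM : Algebra.algebraMapSubmonoid F (nonZeroDivisors κ[X]) ≤ nonZeroDivisors F := by
    rintro _ ⟨g, hg, rfl⟩
    apply mem_nonZeroDivisors_of_ne_zero
    intro h0
    have : g = 0 := hinj (by rw [h0, map_zero])
    exact (nonZeroDivisors.ne_zero hg) this
  -- the rings
  haveI domL : IsDomain (Localization (Algebra.algebraMapSubmonoid F (nonZeroDivisors κ[X]))) :=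
    IsLocalization.isDomain_localization hM
  have hinjFL : Function.Injective (algebraMap F
      (Localization (Algebra.algebraMapSubmonoid F (nonZeroDivisors κ[X])))) :=
    IsLocalization.injective _ hM
  haveI tower2 : IsScalarTower κ (FractionRing κ[X])
      (Localization (Algebra.algebraMapSubmonoid F (nonZeroDivisors κ[X]))) :=
    IsScalarTower.of_algebraMap_eq (fun x => by
      rw [IsScalarTower.algebraMap_apply κ F
          (Localization (Algebra.algebraMapSubmonoid F (nonZeroDivisors κ[X]))),
        IsScalarTower.algebraMap_apply κ κ[X] (FractionRing κ[X]),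
        ← IsScalarTower.algebraMap_apply κ[X] (FractionRing κ[X])
          (Localization (Algebra.algebraMapSubmonoid F (nonZeroDivisors κ[X]))),
        IsScalarTower.algebraMap_apply κ[X] F
          (Localization (Algebra.algebraMapSubmonoid F (nonZeroDivisors κ[X]))),
        ← IsScalarTower.algebraMap_apply κ κ[X] F])
  -- finite type over the fraction field
  haveI ftKL : Algebra.FiniteType (FractionRing κ[X])
      (Localization (Algebra.algebraMapSubmonoid F (nonZeroDivisors κ[X]))) := by
    have h1 : (algebraMap κ[X] F).FiniteType := by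
      rw [RingHom.finiteType_algebraMap]
      exact Algebra.FiniteType.of_restrictScalars_finiteType κ κ[X] F
    haveI : IsLocalization (Submonoid.map (algebraMap κ[X] F) (nonZeroDivisors κ[X]))
        (Localization (Algebra.algebraMapSubmonoid F (nonZeroDivisors κ[X]))) :=
      inferInstanceAs (IsLocalization (Algebra.algebraMapSubmonoid F (nonZeroDivisors κ[X])) _)
    have h2 := RingHom.finiteType_localizationPreserves (algebraMap κ[X] F) (nonZeroDivisors κ[X])
      (FractionRing κ[X]) (Localization (Algebra.algebraMapSubmonoid F (nonZeroDivisors κ[X]))) h1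
    rw [← RingHom.finiteType_algebraMap]
    exact h2
  -- the dimensions
  obtain ⟨s, hs1, hs2⟩ := Groth.Agent.Lib.Helper55.exists_ringKrullDim_eq_and_trdeg_eq κ F
  obtain ⟨s', hs1', hs2'⟩ := Groth.Agent.Lib.Helper55.exists_ringKrullDim_eq_and_trdeg_eq
    (FractionRing κ[X]) (Localization (Algebra.algebraMapSubmonoid F (nonZeroDivisors κ[X])))
  -- transcendence degrees
  haveI : FaithfulSMul F (Localization (Algebra.algebraMapSubmonoid F (nonZeroDivisors κ[X]))) :=
    (faithfulSMul_iff_algebraMap_injective _ _).mpr hinjFL
  haveI : Algebra.IsAlgebraic F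
      (Localization (Algebra.algebraMapSubmonoid F (nonZeroDivisors κ[X]))) :=
    IsLocalization.isAlgebraic _ (Algebra.algebraMapSubmonoid F (nonZeroDivisors κ[X]))
  haveI : Algebra.IsAlgebraic κ[X] (FractionRing κ[X]) :=
    IsLocalization.isAlgebraic _ (nonZeroDivisors κ[X])
  have T5 : Algebra.trdeg κ F + Algebra.trdeg F
      (Localization (Algebra.algebraMapSubmonoid F (nonZeroDivisors κ[X]))) =
      Algebra.trdeg κ (Localization (Algebra.algebraMapSubmonoid F (nonZeroDivisors κ[X]))) :=
    trdeg_add_eq κ F
  have T4 : Algebra.trdeg κ κ[X] + Algebra.trdeg κ[X] (FractionRing κ[X]) =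
      Algebra.trdeg κ (FractionRing κ[X]) := trdeg_add_eq κ κ[X]
  have T3 : Algebra.trdeg κ (FractionRing κ[X]) + Algebra.trdeg (FractionRing κ[X])
      (Localization (Algebra.algebraMapSubmonoid F (nonZeroDivisors κ[X]))) =
      Algebra.trdeg κ (Localization (Algebra.algebraMapSubmonoid F (nonZeroDivisors κ[X]))) :=
    trdeg_add_eq κ (FractionRing κ[X])
  have z5 : Algebra.trdeg F
      (Localization (Algebra.algebraMapSubmonoid F (nonZeroDivisors κ[X]))) = 0 := trdeg_eq_zero
  have z4 : Algebra.trdeg κ[X] (FractionRing κ[X]) = 0 := trdeg_eq_zero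
  rw [z5, add_zero] at T5
  rw [z4, add_zero] at T4
  rw [Polynomial.trdeg_of_isDomain] at T4
  rw [← T4, ← T5, hs2, hs2'] at T3
  have hss' : s = 1 + s' := by exact_mod_cast T3.symm
  -- bound on `s'`
  have hs'e : s' < e := by
    have : ringKrullDim (Localization (Algebra.algebraMapSubmonoid F (nonZeroDivisors κ[X]))) <
        (e : WithBot ℕ∞) := by
      rw [ringKrullDim, Order.krullDim_lt_coe_iff]
      intro lL
      have hsm := comap_strictMono_of_injective (algebraMap F
        (Localization (Algebra.algebraMapSubmonoid F (nonZeroDivisors κ[X]))))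
        (PrimeSpectrum.localization_comap_injective _
          (Algebra.algebraMapSubmonoid F (nonZeroDivisors κ[X])))
      have := h (lL.map _ hsm) (fun i g hg => by
        by_contra hg0
        have hgM : algebraMap κ[X] F g ∈ Algebra.algebraMapSubmonoid F (nonZeroDivisors κ[X]) :=
          ⟨g, mem_nonZeroDivisors_of_ne_zero hg0, rfl⟩
        have hu : IsUnit (algebraMap F
            (Localization (Algebra.algebraMapSubmonoid F (nonZeroDivisors κ[X])))
            (algebraMap κ[X] F g)) :=
          IsLocalization.map_units _ (⟨_, hgM⟩ : Algebra.algebraMapSubmonoid F (nonZeroDivisors κ[X]))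
        have hmem : algebraMap F
            (Localization (Algebra.algebraMapSubmonoid F (nonZeroDivisors κ[X])))
            (algebraMap κ[X] F g) ∈ (lL i).asIdeal := hg
        exact (lL i).isPrime.ne_top (Ideal.eq_top_of_isUnit_mem _ hmem hu))
      simpa using this
    rw [hs1'] at this
    exact_mod_cast this
  rw [hs1]
  have : s < e + 1 := by omega
  exact_mod_cast this

end

theorem ringKrullDim_lt_succ_of_generic (κ F : Type u) [Field κ] [CommRing F] [IsDomain F]
    [Algebra κ F] [Algebra.FiniteType κ F] (t : F) (ht : Transcendental κ t) (e : ℕ)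
    (h : ∀ l : LTSeries (PrimeSpectrum F),
      (∀ i, ∀ g : κ[X], aeval t g ∈ (l i).asIdeal → g = 0) → l.length < e) :
    ringKrullDim F < ((e + 1 : ℕ) : WithBot ℕ∞) := by
  letI algP : Algebra κ[X] F := (aeval t : κ[X] →ₐ[κ] F).toRingHom.toAlgebra
  have halg : ∀ g : κ[X], algebraMap κ[X] F g = aeval t g := fun g => rfl
  haveI tower1 : IsScalarTower κ κ[X] F := IsScalarTower.of_algebraMap_eq (fun x => by
    rw [halg, Polynomial.algebraMap_apply, aeval_C]
    simp)
  have hinj : Function.Injective (algebraMap κ[X] F) := transcendental_iff_injective.mp ht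
  exact ringKrullDim_lt_succ_of_generic_aux κ F hinj e h

end Groth.Agent.H8.FD
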