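import Mathlib
import Groth.Agent.H8.FD.Basic
import Groth.Agent.H8.FD.DimF

/-!
# Chains above a generic prime in a finite type algebra over a field (helper8)
-/

set_option autoImplicit false
set_option linter.style.haveILetI false
set_option linter.unusedSectionVars false

namespace Groth.Agent.H8.FD

open Polynomial

universe u

theorem length_lt_succ_of_generic (κ F : Type u) [Field κ] [CommRing F] [Algebra κ F]
    [Algebra.FiniteType κ F] (t : F) (e : ℕ)
    (hyp : ∀ l : LTSeries (PrimeSpectrum F),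
      (∀ i, ∀ g : κ[X], aeval t g ∈ (l i).asIdeal → g = 0) → l.length < e)
    (l' : LTSeries (PrimeSpectrum F)) (h0 : ∀ g : κ[X], aeval t g ∈ (l' 0).asIdeal → g = 0) :
    l'.length < e + 1 := by
  classical
  obtain ⟨𝔮₀, h𝔮₀⟩ : ∃ 𝔮₀ : PrimeSpectrum F, 𝔮₀ = l' 0 := ⟨_, rfl⟩
  rw [← h𝔮₀] at h0
  have hmk : ∀ g : κ[X], aeval (Ideal.Quotient.mk 𝔮₀.asIdeal t) g =
      Ideal.Quotient.mk 𝔮₀.asIdeal (aeval t g) := fun g =>
    aeval_algHom_apply (Ideal.Quotient.mkₐ κ 𝔮₀.asIdeal) t g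
  have ht'' : Transcendental κ (Ideal.Quotient.mk 𝔮₀.asIdeal t) := by
    rintro ⟨g, hg0, hg⟩
    apply hg0
    apply h0 g
    rw [← Ideal.Quotient.eq_zero_iff_mem, ← hmk]
    exact hg
  have hinj1 := PrimeSpectrum.comap_injective_of_surjective (Ideal.Quotient.mk 𝔮₀.asIdeal)
    Ideal.Quotient.mk_surjective
  have hsm1 : StrictMono (PrimeSpectrum.comap (Ideal.Quotient.mk 𝔮₀.asIdeal)) :=
    comap_strictMono_of_injective _ hinj1
  have hyp' : ∀ l'' : LTSeries (PrimeSpectrum (F ⧸ 𝔮₀.asIdeal)),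
      (∀ i, ∀ g : κ[X], aeval (Ideal.Quotient.mk 𝔮₀.asIdeal t) g ∈ (l'' i).asIdeal → g = 0) →
        l''.length < e := by
    intro l'' hl''
    have := hyp (l''.map _ hsm1) (fun i g hg => by
      apply hl'' i g
      rw [hmk]
      exact hg)
    simpa using this
  have hdim := ringKrullDim_lt_succ_of_generic κ (F ⧸ 𝔮₀.asIdeal) _ ht'' e hyp'
  rw [ringKrullDim_quotient, krullDim_subtype_lt_iff] at hdim
  exact hdim l' (fun i => by
    rw [PrimeSpectrum.mem_zeroLocus, SetLike.coe_subset_coe, h𝔮₀]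
    exact l'.monotone (Fin.zero_le i))

end Groth.Agent.H8.FD
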