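import Mathlib
import Groth.Agent.H8.FD.Basic

/-!
# Dictionary between primes of a fibre ring and primes of the total ring (helper8)
-/

set_option autoImplicit false
set_option linter.style.haveILetI false
set_option linter.unusedSectionVars false

namespace Groth.Agent.H8.FD

open Polynomial TensorProduct PrimeSpectrum

universe u

section Dict

variable {W S : Type u} [CommRing W] [CommRing S] [Algebra W S]

theorem exists_mul_eq_algebraMap (𝔭 : Ideal W) [𝔭.IsPrime] (c : 𝔭.ResidueField) :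
    ∃ r ∉ 𝔭, ∃ w : W,
      algebraMap W 𝔭.ResidueField r * c = algebraMap W 𝔭.ResidueField w := by
  obtain ⟨⟨x, ⟨y, hy⟩⟩, hxy⟩ := IsLocalization.surj (nonZeroDivisors (W ⧸ 𝔭)) c
  obtain ⟨w, rfl⟩ := Ideal.Quotient.mk_surjective x
  obtain ⟨r, rfl⟩ := Ideal.Quotient.mk_surjective y
  refine ⟨r, ?_, w, ?_⟩
  · intro hr
    have : Ideal.Quotient.mk 𝔭 r = 0 := Ideal.Quotient.eq_zero_iff_mem.mpr hr
    exact nonZeroDivisors.ne_zero hy this
  · simp only [Ideal.algebraMap_quotient_residueField_mk] at hxy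
    rw [mul_comm]
    exact hxy

/-- Clearing denominators of a polynomial over the residue field. -/
theorem exists_clear_denominators (𝔭 : Ideal W) [𝔭.IsPrime] (g : 𝔭.ResidueField[X]) :
    ∃ r ∉ 𝔭, ∃ G : W[X],
      G.map (algebraMap W 𝔭.ResidueField) = C (algebraMap W 𝔭.ResidueField r) * g := by
  induction g using Polynomial.induction_on' with
  | add p q hp hq =>
    obtain ⟨r₁, hr₁, G₁, h₁⟩ := hp
    obtain ⟨r₂, hr₂, G₂, h₂⟩ := hq
    refine ⟨r₁ * r₂, fun h => (Ideal.IsPrime.mem_or_mem ‹_› h).elim hr₁ hr₂,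
      C r₂ * G₁ + C r₁ * G₂, ?_⟩
    simp only [Polynomial.map_add, Polynomial.map_mul, Polynomial.map_C, h₁, h₂, map_mul]
    ring
  | monomial n c =>
    obtain ⟨r, hr, w, hw⟩ := exists_mul_eq_algebraMap 𝔭 c
    refine ⟨r, hr, monomial n w, ?_⟩
    rw [Polynomial.map_monomial, ← hw, C_mul_monomial]

theorem includeRight_aeval (𝔭 : Ideal W) [𝔭.IsPrime] (t : S) (G : W[X]) :
    (Algebra.TensorProduct.includeRight : S →ₐ[W] 𝔭.Fiber S) (aeval t G) =
      aeval ((1 : 𝔭.ResidueField) ⊗ₜ[W] t) (G.map (algebraMap W 𝔭.ResidueField)) := by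
  rw [Polynomial.aeval_map_algebraMap, ← Polynomial.aeval_algHom_apply]
  rfl

theorem map_algebraMap_residueField_eq_zero_iff (𝔭 : Ideal W) [𝔭.IsPrime] (G : W[X]) :
    G.map (algebraMap W 𝔭.ResidueField) = 0 ↔ G ∈ 𝔭.map C := by
  rw [Ideal.mem_map_C_iff, Polynomial.ext_iff]
  simp only [coeff_map, coeff_zero, Ideal.algebraMap_residueField_eq_zero]

/-- The contraction of a prime of the fibre lies over `𝔭`. -/
theorem comap_includeRight_comap_algebraMap (𝔭 : PrimeSpectrum W)
    (𝔮 : PrimeSpectrum (𝔭.asIdeal.Fiber S)) :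
    (𝔮.asIdeal.comap (Algebra.TensorProduct.includeRight :
      S →ₐ[W] 𝔭.asIdeal.Fiber S).toRingHom).comap (algebraMap W S) = 𝔭.asIdeal := by
  have := ((PrimeSpectrum.preimageEquivFiber W S 𝔭).symm 𝔮).2
  rw [Set.mem_preimage, Set.mem_singleton_iff] at this
  exact congr_arg PrimeSpectrum.asIdeal this

/-- **Dictionary**: a prime of the fibre over `𝔭` contracts to the generic point `𝔭[X]` of the
line over `𝔭` iff `t` is transcendental over `κ(𝔭)` modulo it. -/
theorem comap_aeval_eq_map_C_iff (𝔭 : PrimeSpectrum W) (t : S)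
    (𝔮 : PrimeSpectrum (𝔭.asIdeal.Fiber S)) :
    (𝔮.asIdeal.comap (Algebra.TensorProduct.includeRight :
        S →ₐ[W] 𝔭.asIdeal.Fiber S).toRingHom).comap (aeval t : W[X] →ₐ[W] S).toRingHom =
      𝔭.asIdeal.map C ↔
    ∀ g : 𝔭.asIdeal.ResidueField[X],
      aeval ((1 : 𝔭.asIdeal.ResidueField) ⊗ₜ[W] t) g ∈ 𝔮.asIdeal → g = 0 := by
  have hover := comap_includeRight_comap_algebraMap 𝔭 𝔮
  have key : ∀ G : W[X], G ∈ (𝔮.asIdeal.comap (Algebra.TensorProduct.includeRight :
        S →ₐ[W] 𝔭.asIdeal.Fiber S).toRingHom).comap (aeval t : W[X] →ₐ[W] S).toRingHom ↔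
      aeval ((1 : 𝔭.asIdeal.ResidueField) ⊗ₜ[W] t)
        (G.map (algebraMap W 𝔭.asIdeal.ResidueField)) ∈ 𝔮.asIdeal := by
    intro G
    rw [Ideal.mem_comap, Ideal.mem_comap, ← includeRight_aeval]
    rfl
  constructor
  · intro h g hg
    obtain ⟨r, hr, G, hG⟩ := exists_clear_denominators 𝔭.asIdeal g
    have h1 : G ∈ 𝔭.asIdeal.map C := by
      rw [← h, key, hG, map_mul, aeval_C]
      exact Ideal.mul_mem_left _ _ hg
    rw [← map_algebraMap_residueField_eq_zero_iff, hG] at h1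
    rcases mul_eq_zero.mp h1 with h2 | h2
    · rw [C_eq_zero, Ideal.algebraMap_residueField_eq_zero] at h2
      exact absurd h2 hr
    · exact h2
  · intro h
    apply le_antisymm
    · intro G hG
      rw [key] at hG
      rw [← map_algebraMap_residueField_eq_zero_iff]
      exact h _ hG
    · rw [Ideal.map_le_iff_le_comap, Ideal.comap_comap]
      have : (aeval t : W[X] →ₐ[W] S).toRingHom.comp C = algebraMap W S := by
        ext w
        simp
      rw [this, hover]

end Dict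

end Groth.Agent.H8.FD
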