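import Mathlib
import Groth.Agent.H8.FD.Basic
import Groth.Agent.H8.FD.Fiber
import Groth.Agent.H8.FD.DimF

/-!
# Fibre dimension and one extra variable (helper8)

* `fibLT_C`: the fibres of `Spec W[X] → Spec W` have dimension `≤ 1`.
* `fibLT_generic_of_fibLT` (Claim 2): the fibre of `Spec S → Spec D[X]` over the generic point of
  the line over `P` has dimension one less than the fibre of `Spec S → Spec D` over `P`.
* `fibLT_of_fibLT_polynomial`: bound the fibres over `W` by those over `W[X]`.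
-/

set_option autoImplicit false
set_option linter.style.haveILetI false
set_option linter.unusedSectionVars false

namespace Groth.Agent.H8.FD

open Polynomial TensorProduct PrimeSpectrum

universe u

theorem forall_snoc {α : Type*} [Preorder α] (p : LTSeries α) (x : α) (h : p.last < x)
    (P : α → Prop) (hp : ∀ i, P (p i)) (hx : P x) : ∀ i, P ((p.snoc x h) i) := by
  intro i
  have hmem : (p.snoc x h) i ∈ p.snoc x h := ⟨i, rfl⟩
  rw [RelSeries.mem_snoc] at hmem
  rcases hmem with ⟨j, hj⟩ | hmem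
  · rw [← hj]; exact hp j
  · rw [hmem]; exact hx

theorem fibLT_C (W : Type u) [CommRing W] : FibLT (C : W →+* W[X]) Set.univ 2 := by
  have h : ∀ P : PrimeSpectrum W, ringKrullDim (P.asIdeal.Fiber W[X]) ≤ ((1 : ℕ) : WithBot ℕ∞) := by
    intro P
    rw [← ringKrullDim_eq_of_ringEquiv (polyEquivTensor W (P.asIdeal.ResidueField)).toRingEquiv]
    have : Ring.KrullDimLE 1 (P.asIdeal.ResidueField)[X] := inferInstance
    exact_mod_cast (Ring.krullDimLE_iff).mp this
  exact (forall_ringKrullDim_fiber_le_iff (R := W) (T := W[X]) 1).mp h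

section Claim2

variable {D S : Type u} [CommRing D] [CommRing S] [Algebra D S] [Algebra.FiniteType D S]

theorem aeval_comp_C (b : S) : (aeval b : D[X] →ₐ[D] S).toRingHom.comp C = algebraMap D S := by
  ext w
  simp

theorem comap_algebraMap_of_comap_aeval (b : S) (P : Ideal D) (q : Ideal S)
    (h : q.comap (aeval b : D[X] →ₐ[D] S).toRingHom = P.map C) :
    q.comap (algebraMap D S) = P := by
  rw [← aeval_comp_C b, ← Ideal.comap_comap, h]
  ext x
  rw [Ideal.mem_comap, Ideal.mem_map_C_iff]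
  constructor
  · intro hx
    simpa using hx 0
  · intro hx n
    rw [coeff_C]
    split_ifs
    · exact hx
    · exact P.zero_mem

/-- **Claim 2**. -/
theorem fibLT_generic_of_fibLT (b : S) (P : PrimeSpectrum D) (n : ℕ)
    (h : FibLT (algebraMap D S) (PrimeSpectrum.comap (algebraMap D S) ⁻¹' {P}) (n + 1)) :
    FibLT (aeval b : D[X] →ₐ[D] S).toRingHom
      {q | q.asIdeal.comap (aeval b : D[X] →ₐ[D] S).toRingHom = P.asIdeal.map C} n := by
  intro l hl _
  have hover : ∀ i, l i ∈ PrimeSpectrum.comap (algebraMap D S) ⁻¹' {P} := fun i => by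
    rw [Set.mem_preimage, Set.mem_singleton_iff]
    exact PrimeSpectrum.ext (comap_algebraMap_of_comap_aeval b _ _ (hl i))
  let e := PrimeSpectrum.preimageOrderIsoFiber D S P
  let 𝔮 : PrimeSpectrum (P.asIdeal.Fiber S) := e ⟨l.last, hover _⟩
  have h𝔮 : 𝔮.asIdeal.comap (Algebra.TensorProduct.includeRight :
      S →ₐ[D] P.asIdeal.Fiber S).toRingHom = l.last.asIdeal := by
    have := e.symm_apply_apply ⟨l.last, hover _⟩
    exact congr_arg (fun x => x.1.asIdeal) this
  have hgen := (comap_aeval_eq_map_C_iff P b 𝔮).mp (by rw [h𝔮]; exact hl _)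
  have hnotmax : ¬ 𝔮.asIdeal.IsMaximal := by
    intro hmax
    letI := Ideal.Quotient.field 𝔮.asIdeal
    have hfin : Module.Finite P.asIdeal.ResidueField (P.asIdeal.Fiber S ⧸ 𝔮.asIdeal) :=
      finite_of_finite_type_of_isJacobsonRing _ _
    have halg : IsAlgebraic P.asIdeal.ResidueField
        (Ideal.Quotient.mk 𝔮.asIdeal ((1 : P.asIdeal.ResidueField) ⊗ₜ[D] b)) :=
      Algebra.IsAlgebraic.isAlgebraic _
    obtain ⟨g, hg0, hg⟩ := halg
    apply hg0
    apply hgen g
    rw [← Ideal.Quotient.eq_zero_iff_mem, ← hg]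
    exact (aeval_algHom_apply (Ideal.Quotient.mkₐ P.asIdeal.ResidueField 𝔮.asIdeal) _ g).symm
  obtain ⟨𝔪, h𝔪max, h𝔪⟩ := Ideal.exists_le_maximal 𝔮.asIdeal 𝔮.isPrime.ne_top
  have hlt : 𝔮 < ⟨𝔪, h𝔪max.isPrime⟩ := by
    refine lt_of_le_of_ne h𝔪 (fun heq => hnotmax ?_)
    rw [heq]
    exact h𝔪max
  have hq'lt : l.last < (e.symm ⟨𝔪, h𝔪max.isPrime⟩).1 := by
    have := e.symm.strictMono hlt
    rw [e.symm_apply_apply] at this
    exact this
  have := h (l.snoc (e.symm ⟨𝔪, h𝔪max.isPrime⟩).1 hq'lt)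
    (forall_snoc l _ hq'lt (fun x => x ∈ PrimeSpectrum.comap (algebraMap D S) ⁻¹' {P}) hover
      (e.symm ⟨𝔪, h𝔪max.isPrime⟩).2)
    (fun i j => by
      have key := forall_snoc l _ hq'lt
        (fun x => x ∈ PrimeSpectrum.comap (algebraMap D S) ⁻¹' {P}) hover
        (e.symm ⟨𝔪, h𝔪max.isPrime⟩).2
      have hi := key i
      have hj := key j
      rw [Set.mem_preimage, Set.mem_singleton_iff] at hi hj
      rw [hi, hj])
  simpa using this

end Claim2

end Groth.Agent.H8.FD
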