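import Mathlib
import Groth.Agent.H8.FD.Line
import Groth.Agent.H8.FD.DimF2

/-!
# Bounding the fibres over `W` by the fibres over `W[X]` (helper8)
-/

set_option autoImplicit false
set_option linter.style.haveILetI false
set_option linter.unusedSectionVars false

namespace Groth.Agent.H8.FD

open Polynomial TensorProduct PrimeSpectrum

universe u

variable {W S : Type u} [CommRing W] [CommRing S] [Algebra W S] [Algebra.FiniteType W S]

theorem comap_monotone {R T : Type*} [CommRing R] [CommRing T] (f : R →+* T) :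
    Monotone (PrimeSpectrum.comap f) := fun x y hxy => by
  rw [← PrimeSpectrum.asIdeal_le_asIdeal] at hxy ⊢
  exact Ideal.comap_mono hxy

/-- Case B of the main estimate: a chain in a fibre over `𝔭` starting at a prime which contracts to
`𝔭[X]`. -/
theorem length_lt_of_head_generic (t : S) (e : ℕ) (𝔭 : PrimeSpectrum W)
    (h2 : FibLT (aeval t : W[X] →ₐ[W] S).toRingHom
      {q | q.asIdeal.comap (aeval t : W[X] →ₐ[W] S).toRingHom = 𝔭.asIdeal.map C} e)
    (l : LTSeries (PrimeSpectrum S))
    (hover : ∀ i, l i ∈ PrimeSpectrum.comap (algebraMap W S) ⁻¹' {𝔭})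
    (hQ0 : (l 0).asIdeal.comap (aeval t : W[X] →ₐ[W] S).toRingHom = 𝔭.asIdeal.map C) :
    l.length < e + 1 := by
  classical
  let eo := PrimeSpectrum.preimageOrderIsoFiber W S 𝔭
  let l' : LTSeries (PrimeSpectrum (𝔭.asIdeal.Fiber S)) :=
    { length := l.length
      toFun := fun i => eo ⟨l i, hover i⟩
      step := fun i => eo.strictMono (l.step i) }
  have h𝔮₀ : (l' 0).asIdeal.comap (Algebra.TensorProduct.includeRight :
      S →ₐ[W] 𝔭.asIdeal.Fiber S).toRingHom = (l 0).asIdeal := by
    have := eo.symm_apply_apply ⟨l 0, hover 0⟩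
    exact congr_arg (fun x => x.1.asIdeal) this
  have hgen := (comap_aeval_eq_map_C_iff 𝔭 t (l' 0)).mp (by rw [h𝔮₀]; exact hQ0)
  have hsm2 : StrictMono (fun 𝔮 : PrimeSpectrum (𝔭.asIdeal.Fiber S) => (eo.symm 𝔮).1) :=
    fun a b hab => eo.symm.strictMono hab
  have hyp : ∀ l'' : LTSeries (PrimeSpectrum (𝔭.asIdeal.Fiber S)),
      (∀ i, ∀ g : 𝔭.asIdeal.ResidueField[X],
        aeval ((1 : 𝔭.asIdeal.ResidueField) ⊗ₜ[W] t) g ∈ (l'' i).asIdeal → g = 0) →
        l''.length < e := by
    intro l'' hl''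
    have key : ∀ k, ((l''.map _ hsm2) k).asIdeal.comap (aeval t : W[X] →ₐ[W] S).toRingHom =
        𝔭.asIdeal.map C := by
      intro k
      exact (comap_aeval_eq_map_C_iff 𝔭 t (l'' k)).mpr (hl'' k)
    have := h2 (l''.map _ hsm2) key (fun i j => by
      apply PrimeSpectrum.ext
      show ((l''.map _ hsm2) i).asIdeal.comap _ = ((l''.map _ hsm2) j).asIdeal.comap _
      rw [key i, key j])
    simpa using this
  exact length_lt_succ_of_generic 𝔭.asIdeal.ResidueField (𝔭.asIdeal.Fiber S) _ e hyp l' hgen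

/-- **The main estimate**: if the fibres of `Spec S → Spec W[X]` have dimension `≤ e`, and those
over the generic points of the lines `𝔭[X]` have dimension `< e`, then the fibres of
`Spec S → Spec W` have dimension `≤ e`. -/
theorem fibLT_of_fibLT_polynomial (t : S) (e : ℕ)
    (h1 : FibLT (aeval t : W[X] →ₐ[W] S).toRingHom Set.univ (e + 1))
    (h2 : ∀ 𝔭 : PrimeSpectrum W, FibLT (aeval t : W[X] →ₐ[W] S).toRingHom
      {q | q.asIdeal.comap (aeval t : W[X] →ₐ[W] S).toRingHom = 𝔭.asIdeal.map C} e) :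
    FibLT (algebraMap W S) Set.univ (e + 1) := by
  intro l _ hc
  have hover : ∀ i, l i ∈ PrimeSpectrum.comap (algebraMap W S) ⁻¹'
      {PrimeSpectrum.comap (algebraMap W S) (l 0)} := fun i => by
    rw [Set.mem_preimage, Set.mem_singleton_iff]
    exact hc i 0
  by_cases hQ0 : (l 0).asIdeal.comap (aeval t : W[X] →ₐ[W] S).toRingHom =
      (PrimeSpectrum.comap (algebraMap W S) (l 0)).asIdeal.map C
  · exact length_lt_of_head_generic t e _ (h2 _) l hover hQ0
  · refine h1 l (fun _ => trivial) ?_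
    suffices H : ∀ i, PrimeSpectrum.comap (aeval t : W[X] →ₐ[W] S).toRingHom (l i) =
        PrimeSpectrum.comap (aeval t : W[X] →ₐ[W] S).toRingHom (l 0) by
      intro i j
      rw [H i, H j]
    intro i
    by_contra hne
    have hle : PrimeSpectrum.comap (aeval t : W[X] →ₐ[W] S).toRingHom (l 0) ≤
        PrimeSpectrum.comap (aeval t : W[X] →ₐ[W] S).toRingHom (l i) :=
      comap_monotone _ (l.monotone (Fin.zero_le i))
    have hlt := lt_of_le_of_ne hle (Ne.symm hne)
    have hC : ∀ k, PrimeSpectrum.comap (C : W →+* W[X])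
        (PrimeSpectrum.comap (aeval t : W[X] →ₐ[W] S).toRingHom (l k)) =
        PrimeSpectrum.comap (algebraMap W S) (l 0) := by
      intro k
      rw [← hc k 0, ← PrimeSpectrum.comap_comp_apply, aeval_comp_C]
    let P0 : PrimeSpectrum W[X] :=
      ⟨(PrimeSpectrum.comap (algebraMap W S) (l 0)).asIdeal.map C, Ideal.isPrime_map_C_of_isPrime⟩
    have hP0C : PrimeSpectrum.comap (C : W →+* W[X]) P0 =
        PrimeSpectrum.comap (algebraMap W S) (l 0) := by
      apply PrimeSpectrum.ext
      ext x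
      show x ∈ Ideal.comap C (Ideal.map C _) ↔ _
      rw [Ideal.mem_comap, Ideal.mem_map_C_iff]
      constructor
      · intro hx
        simpa using hx 0
      · intro hx n
        rw [coeff_C]
        split_ifs
        · exact hx
        · exact Ideal.zero_mem _
    have hP0lt : P0 < PrimeSpectrum.comap (aeval t : W[X] →ₐ[W] S).toRingHom (l 0) := by
      refine lt_of_le_of_ne ?_ (fun h => hQ0 (congr_arg PrimeSpectrum.asIdeal h).symm)
      rw [← PrimeSpectrum.asIdeal_le_asIdeal]
      show Ideal.map C _ ≤ _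
      rw [Ideal.map_le_iff_le_comap]
      have := congr_arg PrimeSpectrum.asIdeal (hC 0)
      exact this.ge
    let L₁ : LTSeries (PrimeSpectrum W[X]) := (RelSeries.singleton _ P0).snoc _ hP0lt
    have hL₁ : L₁.last < PrimeSpectrum.comap (aeval t : W[X] →ₐ[W] S).toRingHom (l i) := by
      simpa [L₁] using hlt
    have key₁ : ∀ k, PrimeSpectrum.comap (C : W →+* W[X]) (L₁ k) =
        PrimeSpectrum.comap (algebraMap W S) (l 0) :=
      forall_snoc _ _ hP0lt (fun x => PrimeSpectrum.comap (C : W →+* W[X]) x =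
        PrimeSpectrum.comap (algebraMap W S) (l 0)) (fun _ => hP0C) (hC 0)
    have key₂ := forall_snoc L₁ _ hL₁ (fun x => PrimeSpectrum.comap (C : W →+* W[X]) x =
        PrimeSpectrum.comap (algebraMap W S) (l 0)) key₁ (hC i)
    have := fibLT_C W (L₁.snoc _ hL₁) (fun _ => trivial) (fun a b => by rw [key₂ a, key₂ b])
    simp [L₁] at this

end Groth.Agent.H8.FD
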