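import Mathlib
import Groth.Agent.H8.FD.Basic
import Groth.Agent.Lib.Helper13.ChevalleyAlg
import Groth.Agent.Lib.Helper29.TopDim

/-!
# Chevalley semicontinuity in chain form (helper8), from helper13's scheme-level theorem
-/

set_option autoImplicit false
set_option linter.style.haveILetI false
set_option linter.unusedSectionVars false

namespace Groth.Agent.H8.FD

open AlgebraicGeometry CategoryTheory PrimeSpectrum

universe u

variable {A S : Type u} [CommRing A] [CommRing S] [Algebra A S] [Algebra.FiniteType A S]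

/-- If `fibreDimAt ≤ n` at the top of a chain of primes in a fibre, the chain has length `≤ n`. -/
theorem length_le_of_fibreDimAt_le (n : ℕ) (l : LTSeries (PrimeSpectrum S))
    (hc : ∀ i j, PrimeSpectrum.comap (algebraMap A S) (l i) =
      PrimeSpectrum.comap (algebraMap A S) (l j))
    (hw : FlatMor.fibreDimAt (Spec.map (CommRingCat.ofHom (algebraMap A S)))
      (l.last : Spec (.of S)) ≤ n) : l.length ≤ n := by
  classical
  let P' : PrimeSpectrum A := ⟨l.last.asIdeal.under A, inferInstance⟩
  have hover : ∀ i, l i ∈ PrimeSpectrum.comap (algebraMap A S) ⁻¹' {P'} := fun i => by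
    rw [Set.mem_preimage, Set.mem_singleton_iff, hc i (Fin.last _)]
    rfl
  let eo := PrimeSpectrum.preimageOrderIsoFiber A S P'
  let X := PrimeSpectrum (P'.asIdeal.Fiber S)
  let e₂ := PrimeSpectrum.pointsEquivIrreducibleCloseds (P'.asIdeal.Fiber S)
  let p : LTSeries (TopologicalSpace.IrreducibleCloseds X) :=
    LTSeries.mk l.length (fun i => OrderDual.ofDual (e₂ (eo ⟨l i.rev, hover _⟩))) (by
      intro i j hij
      rw [OrderDual.ofDual_lt_ofDual]
      apply e₂.strictMono
      apply eo.strictMono
      show l j.rev < l i.rev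
      exact l.strictMono (Fin.rev_lt_rev.mpr hij))
  let Q : X := eo ⟨l.last, hover _⟩
  have hQhead : Q ∈ ((p.head : TopologicalSpace.IrreducibleCloseds X) : Set X) := by
    show Q ∈ closure {eo ⟨l (Fin.rev 0), hover _⟩}
    rw [Fin.rev_zero]
    exact subset_closure rfl
  have h1 := Groth.Agent.Lib.Helper29.length_le_localDim p Q hQhead
  have hQ : Q.asIdeal.comap (Algebra.TensorProduct.includeRight.toRingHom) = l.last.asIdeal := by
    have := eo.symm_apply_apply ⟨l.last, hover _⟩
    exact congr_arg (fun x => x.1.asIdeal) this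
  have h2 := Groth.Agent.Lib.Helper13.Chevalley.localDim_fiber_eq_fibreDimAt_SpecMap A S
    (l.last : Spec (.of S)) Q hQ
  have h3 : ((l.length : ℕ) : WithBot ℕ∞) ≤ (n : WithBot ℕ∞) := by
    refine le_trans ?_ hw
    rw [← h2]
    exact h1
  exact_mod_cast h3

/-- **Semicontinuity in chain form**: if the fibre through `q` has dimension `≤ n`, then all
fibres have dimension `≤ n` on a basic open neighbourhood of `q`. -/
theorem exists_basicOpen_fibLT (q : PrimeSpectrum S) (n : ℕ)
    (h : FibLT (algebraMap A S) (PrimeSpectrum.comap (algebraMap A S) ⁻¹'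
      {PrimeSpectrum.comap (algebraMap A S) q}) (n + 1)) :
    ∃ s : S, s ∉ q.asIdeal ∧
      FibLT (algebraMap A S) (PrimeSpectrum.basicOpen s : Set (PrimeSpectrum S)) (n + 1) := by
  have hdim : ringKrullDim ((PrimeSpectrum.comap (algebraMap A S) q).asIdeal.Fiber S) ≤ n :=
    (ringKrullDim_fiber_le_iff _ n).mpr h
  obtain ⟨W, hqW, hW⟩ := Groth.Agent.Lib.Helper13.Chevalley.exists_opens_fibreDimAt_le_of_affine
    A S (q : Spec (.of S)) n hdim
  obtain ⟨_, ⟨s, rfl⟩, hqs, hsW⟩ :=
    (PrimeSpectrum.isTopologicalBasis_basic_opens (R := S)).exists_subset_of_mem_open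
      (a := q) (u := W.1) hqW W.2
  refine ⟨s, ?_, ?_⟩
  · exact (PrimeSpectrum.mem_basicOpen s q).mp hqs
  · intro l hl hc
    have := length_le_of_fibreDimAt_le n l hc (hW _ (hsW (hl _)))
    omega

end Groth.Agent.H8.FD
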