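import Mathlib
import Groth.Agent.H8.FD.Global
import Groth.Agent.H8.FD.Semicont

/-!
# Instance-free versions (ring homomorphisms instead of algebra instances) (helper8)
-/

set_option autoImplicit false
set_option linter.style.haveILetI false
set_option linter.unusedSectionVars false

namespace Groth.Agent.H8.FD

open Polynomial PrimeSpectrum

universe u

variable {D S : Type u} [CommRing D] [CommRing S]

theorem aeval_toRingHom_eq_eval₂RingHom (δ : D →+* S) (b : S) :
    letI := δ.toAlgebra
    (aeval b : D[X] →ₐ[D] S).toRingHom = eval₂RingHom δ b := by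
  letI := δ.toAlgebra
  apply Polynomial.ringHom_ext
  · intro d
    simp [RingHom.algebraMap_toAlgebra]
  · simp

/-- Claim 2, instance-free. -/
theorem fibLT_generic_of_fibLT' (δ : D →+* S) (hft : δ.FiniteType) (b : S)
    (P : PrimeSpectrum D) (n : ℕ)
    (h : FibLT δ (PrimeSpectrum.comap δ ⁻¹' {P}) (n + 1)) :
    FibLT (eval₂RingHom δ b)
      {q | q.asIdeal.comap (eval₂RingHom δ b) = P.asIdeal.map C} n := by
  letI := δ.toAlgebra
  haveI : Algebra.FiniteType D S := hft
  have := fibLT_generic_of_fibLT (D := D) (S := S) b P n h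
  rw [aeval_toRingHom_eq_eval₂RingHom δ b] at this
  exact this

/-- The main estimate, instance-free. -/
theorem fibLT_of_fibLT_polynomial' (ω : D →+* S) (hft : ω.FiniteType) (t : S) (e : ℕ)
    (h1 : FibLT (eval₂RingHom ω t) Set.univ (e + 1))
    (h2 : ∀ 𝔭 : PrimeSpectrum D, FibLT (eval₂RingHom ω t)
      {q | q.asIdeal.comap (eval₂RingHom ω t) = 𝔭.asIdeal.map C} e) :
    FibLT ω Set.univ (e + 1) := by
  letI := ω.toAlgebra
  haveI : Algebra.FiniteType D S := hft
  have key := aeval_toRingHom_eq_eval₂RingHom ω t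
  have := fibLT_of_fibLT_polynomial (W := D) (S := S) t e (by rw [key]; exact h1)
    (by rw [key]; exact h2)
  exact this

/-- Semicontinuity, instance-free. -/
theorem exists_basicOpen_fibLT' (φ : D →+* S) (hft : φ.FiniteType) (q : PrimeSpectrum S) (n : ℕ)
    (h : FibLT φ (PrimeSpectrum.comap φ ⁻¹' {PrimeSpectrum.comap φ q}) (n + 1)) :
    ∃ s : S, s ∉ q.asIdeal ∧
      FibLT φ (PrimeSpectrum.basicOpen s : Set (PrimeSpectrum S)) (n + 1) := by
  letI := φ.toAlgebra
  haveI : Algebra.FiniteType D S := hft
  exact exists_basicOpen_fibLT (A := D) (S := S) q n h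

end Groth.Agent.H8.FD
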