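import Mathlib
import Groth.Agent.H8.FD.Hom
import Groth.Agent.H8.FD.Deg
import Groth.Agent.H8.FD.Cover

/-!
# Fibre dimension is stable under `x ↦ a ^ n + b` for `n ≫ 0` (helper8)

Main result `exists_forall_fibLT_pow_add`: if the fibres of `Spec S → Spec R` have dimension
`≤ e + 1` and the fibres of `(a, b) : Spec S → 𝔸²_R` have dimension `≤ e`, then for `n ≫ 0` the
fibres of `a ^ n + b : Spec S → 𝔸¹_R` have dimension `≤ e`.
-/

set_option autoImplicit false
set_option linter.style.haveILetI false
set_option linter.unusedSectionVars false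

namespace Groth.Agent.H8.FD

open Polynomial PrimeSpectrum

universe u

variable {R S : Type u} [CommRing R] [CommRing S] [Algebra R S]

/-- `x ↦ a`. -/
noncomputable def hom1 (a : S) : R[X] →+* S := eval₂RingHom (algebraMap R S) a

/-- `x ↦ a` (inner variable), `y ↦ b` (outer variable). -/
noncomputable def hom2 (a b : S) : R[X][X] →+* S := eval₂RingHom (hom1 (R := R) a) b

@[simp] theorem hom1_C (a : S) (r : R) : hom1 a (C r) = algebraMap R S r := by simp [hom1]
@[simp] theorem hom1_X (a : S) : hom1 (R := R) a X = a := by simp [hom1]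
@[simp] theorem hom2_C (a b : S) (f : R[X]) : hom2 a b (C f) = hom1 a f := by simp [hom2]
@[simp] theorem hom2_X (a b : S) : hom2 (R := R) a b X = b := by simp [hom2]

theorem hom1_comp_C (a : S) : (hom1 (R := R) a).comp C = algebraMap R S :=
  RingHom.ext fun r => by rw [RingHom.comp_apply, hom1_C]

theorem hom2_comp_C (a b : S) : (hom2 (R := R) a b).comp C = hom1 a :=
  RingHom.ext fun f => by rw [RingHom.comp_apply, hom2_C]

theorem hom1_eq_aeval (a : S) : hom1 (R := R) a = (aeval a : R[X] →ₐ[R] S).toRingHom := by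
  apply Polynomial.ringHom_ext <;> simp

theorem hom1_finiteType [Algebra.FiniteType R S] (a : S) : (hom1 (R := R) a).FiniteType := by
  apply RingHom.FiniteType.of_comp_finiteType (f := (C : R →+* R[X]))
  rw [hom1_comp_C]
  exact (RingHom.finiteType_algebraMap).mpr inferInstance

theorem hom2_finiteType [Algebra.FiniteType R S] (a b : S) :
    (hom2 (R := R) a b).FiniteType := by
  apply RingHom.FiniteType.of_comp_finiteType (f := (C : R[X] →+* R[X][X]))
  rw [hom2_comp_C]
  exact hom1_finiteType a

/-- the change of coordinates `(x, y) ↦ (x, w - x ^ n)` -/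
noncomputable def theta (R : Type u) [CommRing R] (n : ℕ) : R[X][X] →+* R[X][X] :=
  eval₂RingHom (eval₂RingHom ((C : R[X] →+* R[X][X]).comp C) X) (C X - X ^ n)

theorem hom2_comp_theta (a b : S) (n : ℕ) :
    (hom2 (R := R) (a ^ n + b) a).comp (theta R n) = hom2 a b := by
  apply Polynomial.ringHom_ext'
  · apply Polynomial.ringHom_ext'
    · ext r
      simp [theta]
    · simp [theta]
  · simp [theta]

theorem hom2_mem_range (a b : S) (n : ℕ) (x : R[X][X]) :
    hom2 a b x ∈ Set.range (hom2 (R := R) (a ^ n + b) a) :=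
  ⟨theta R n x, by rw [← RingHom.comp_apply, hom2_comp_theta (R := R)]⟩

/-- type (i) points -/
theorem fibLT_over_generic [Algebra.FiniteType R S] (a b : S) (e : ℕ)
    (H0 : FibLT (algebraMap R S) Set.univ (e + 2)) (p : PrimeSpectrum R) :
    FibLT (hom2 (R := R) a b)
      {q | q.asIdeal.comap (hom2 (R := R) a b) = (p.asIdeal.map C).map C} e := by
  have step1 := fibLT_generic_of_fibLT' (algebraMap R S)
    ((RingHom.finiteType_algebraMap).mpr inferInstance) a p (e + 1)
    (H0.mono_set (Set.subset_univ _))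
  have step2 := fibLT_generic_of_fibLT' (hom1 (R := R) a) (hom1_finiteType a) b
    ⟨p.asIdeal.map C, Ideal.isPrime_map_C_of_isPrime⟩ e
    (step1.mono_set (fun q hq => by
      rw [Set.mem_preimage, Set.mem_singleton_iff] at hq
      exact congr_arg PrimeSpectrum.asIdeal hq))
  exact step2

theorem map_theta (n : ℕ) (E : Type u) [CommRing E] (π : R[X] →+* E) (f : R[X][X]) :
    (theta R n f).map π =
      (f.map (mapRingHom (π.comp C))).eval (C (π X) - X ^ n) := by
  have : (mapRingHom π).comp (theta R n) =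
      (evalRingHom (C (π X) - X ^ n)).comp (mapRingHom (mapRingHom (π.comp C))) := by
    apply Polynomial.ringHom_ext'
    · apply Polynomial.ringHom_ext'
      · ext r
        simp [theta]
      · simp [theta]
    · simp [theta]
  exact RingHom.congr_fun this f

/-- type (ii) points: the key degree argument -/
theorem coeff_mem_of_comap_eq_map_C (a b : S) (n : ℕ) (𝔭 : PrimeSpectrum R[X])
    (q : PrimeSpectrum S)
    (hq : q.asIdeal.comap (hom2 (R := R) (a ^ n + b) a) = 𝔭.asIdeal.map C) (f : R[X][X])
    (hf : hom2 (R := R) a b f ∈ q.asIdeal) (hdeg : ∀ j, (f.coeff j).natDegree < n) (j i : ℕ) :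
    algebraMap R S ((f.coeff j).coeff i) ∈ q.asIdeal := by
  have h1 : theta R n f ∈ 𝔭.asIdeal.map C := by
    rw [← hq, Ideal.mem_comap, ← RingHom.comp_apply, hom2_comp_theta]
    exact hf
  have h2 : (theta R n f).map (Ideal.Quotient.mk 𝔭.asIdeal) = 0 := by
    ext k
    rw [coeff_map, coeff_zero, Ideal.Quotient.eq_zero_iff_mem]
    exact Ideal.mem_map_C_iff.mp h1 k
  rw [map_theta] at h2
  have h3 := eq_zero_of_eval_sub_pow_eq_zero _ n _ (fun j => by
    rw [coeff_map]
    exact lt_of_le_of_lt (natDegree_map_le) (hdeg j)) h2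
  have h4 : Ideal.Quotient.mk 𝔭.asIdeal (C ((f.coeff j).coeff i)) = 0 := by
    have := congr_arg (fun F : (R[X] ⧸ 𝔭.asIdeal)[X][X] => (F.coeff j).coeff i) h3
    simpa using this
  rw [Ideal.Quotient.eq_zero_iff_mem] at h4
  have h5 : (C (C ((f.coeff j).coeff i)) : R[X][X]) ∈ 𝔭.asIdeal.map C :=
    Ideal.mem_map_of_mem _ h4
  rw [← hq, Ideal.mem_comap] at h5
  simpa using h5

end Groth.Agent.H8.FD
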