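import Mathlib
import Groth.Agent.H8.FD.Main

/-!
# Fibre dimension is stable under `x ↦ a ^ n + b` for `n ≫ 0`: the main theorem (helper8)
-/

set_option autoImplicit false
set_option linter.style.haveILetI false
set_option linter.unusedSectionVars false

namespace Groth.Agent.H8.FD

open Polynomial PrimeSpectrum

universe u

variable {R S : Type u} [CommRing R] [CommRing S] [Algebra R S] [Algebra.FiniteType R S]

/-- `Good U N`: for `n ≥ N`, chains ending in `U` whose members all contract to the generic point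
of a line `𝔭[x]` (for the coordinates `(w, x)`, `w = a ^ n + b`) have length `< e`. -/
def Good (a b : S) (e : ℕ) (U : Set (PrimeSpectrum S)) (N : ℕ) : Prop :=
  ∀ n ≥ N, ∀ 𝔭 : PrimeSpectrum R[X], ∀ l : LTSeries (PrimeSpectrum S), l.last ∈ U →
    (∀ i, (l i).asIdeal.comap (hom2 (R := R) (a ^ n + b) a) = 𝔭.asIdeal.map C) → l.length < e

theorem le_comap_hom2 (a b : S) (q : PrimeSpectrum S) :
    ((PrimeSpectrum.comap (algebraMap R S) q).asIdeal.map C).map C ≤
      q.asIdeal.comap (hom2 (R := R) a b) := by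
  rw [Ideal.map_le_iff_le_comap, Ideal.map_le_iff_le_comap, Ideal.comap_comap, Ideal.comap_comap,
    ← RingHom.comp_assoc, hom2_comp_C, hom1_comp_C]
  exact le_of_eq rfl

theorem exists_good (a b : S) (e : ℕ)
    (H0 : FibLT (algebraMap R S) Set.univ (e + 2)) (q : PrimeSpectrum S) :
    ∃ (s g : S) (N : ℕ), q ∈ (PrimeSpectrum.basicOpen s : Set (PrimeSpectrum S)) ∩
        PrimeSpectrum.zeroLocus {g} ∧
      Good (R := R) a b e ((PrimeSpectrum.basicOpen s : Set (PrimeSpectrum S)) ∩
        PrimeSpectrum.zeroLocus {g}) N := by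
  classical
  by_cases hcase : q.asIdeal.comap (hom2 (R := R) a b) =
      ((PrimeSpectrum.comap (algebraMap R S) q).asIdeal.map C).map C
  · -- type (i)
    have hfib : FibLT (hom2 (R := R) a b) (PrimeSpectrum.comap (hom2 (R := R) a b) ⁻¹'
        {PrimeSpectrum.comap (hom2 (R := R) a b) q}) e :=
      (fibLT_over_generic a b e H0 (PrimeSpectrum.comap (algebraMap R S) q)).mono_set
        (fun q' hq' => by
          rw [Set.mem_preimage, Set.mem_singleton_iff] at hq'
          show q'.asIdeal.comap (hom2 (R := R) a b) = _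
          rw [← hcase]
          exact congr_arg PrimeSpectrum.asIdeal hq')
    rcases Nat.eq_zero_or_pos e with he | he
    · exfalso
      have := hfib (RelSeries.singleton _ q) (fun i => by simp) (fun i j => by simp)
      simp [he] at this
    · obtain ⟨e', rfl⟩ : ∃ e', e = e' + 1 := ⟨e - 1, by omega⟩
      obtain ⟨s, hsq, hs⟩ := exists_basicOpen_fibLT' (hom2 (R := R) a b) (hom2_finiteType a b) q e'
        hfib
      refine ⟨s, 0, 0, ⟨(PrimeSpectrum.mem_basicOpen s q).mpr hsq, by simp⟩, ?_⟩
      intro n _ 𝔭 l hl hc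
      have hs' : FibLT (hom2 (R := R) (a ^ n + b) a)
          (PrimeSpectrum.basicOpen s : Set (PrimeSpectrum S)) (e' + 1) :=
        FibLT.of_range_le (fun x => hom2_mem_range a b n x) hs
      refine hs' l (fun i => ?_) (fun i j => PrimeSpectrum.ext ((hc i).trans (hc j).symm))
      have hle : l i ≤ l.last := l.monotone (Fin.le_last i)
      have hlast := (PrimeSpectrum.mem_basicOpen s _).mp hl.1
      rw [SetLike.mem_coe, PrimeSpectrum.mem_basicOpen]
      exact fun h => hlast (hle h)
  · -- type (ii)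
    have hne : ¬ q.asIdeal.comap (hom2 (R := R) a b) ≤
        ((PrimeSpectrum.comap (algebraMap R S) q).asIdeal.map C).map C :=
      fun h => hcase (le_antisymm h (le_comap_hom2 a b q))
    obtain ⟨f, hfq, hfnot⟩ := Set.not_subset.mp hne
    rw [SetLike.mem_coe, Ideal.mem_map_C_iff] at hfnot
    push Not at hfnot
    obtain ⟨j, hj⟩ := hfnot
    rw [Ideal.mem_map_C_iff] at hj
    push Not at hj
    obtain ⟨i, hi⟩ := hj
    refine ⟨algebraMap R S ((f.coeff j).coeff i), hom2 (R := R) a b f,
      (f.support.sup fun k => (f.coeff k).natDegree) + 1, ⟨?_, ?_⟩, ?_⟩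
    · rw [SetLike.mem_coe, PrimeSpectrum.mem_basicOpen]
      exact hi
    · rw [PrimeSpectrum.mem_zeroLocus, Set.singleton_subset_iff]
      exact hfq
    · intro n hn 𝔭 l hl hc
      exfalso
      have hdeg : ∀ k, (f.coeff k).natDegree < n := by
        intro k
        by_cases hk : k ∈ f.support
        · have := Finset.le_sup (f := fun k => (f.coeff k).natDegree) hk
          omega
        · rw [notMem_support_iff.mp hk, natDegree_zero]
          omega
      have hmem : hom2 (R := R) a b f ∈ l.last.asIdeal := by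
        have := hl.2
        rw [PrimeSpectrum.mem_zeroLocus, Set.singleton_subset_iff] at this
        exact this
      have := coeff_mem_of_comap_eq_map_C a b n 𝔭 l.last (hc _) f hmem hdeg j i
      exact ((PrimeSpectrum.mem_basicOpen _ _).mp hl.1) this

/-- **Main theorem.**  If the fibres of `Spec S → Spec R` have dimension `≤ e + 1` and the fibres
of `(a, b) : Spec S → 𝔸²_R` have dimension `≤ e`, then for `n ≫ 0` the fibres of
`a ^ n + b : Spec S → 𝔸¹_R` have dimension `≤ e`. -/
theorem exists_forall_fibLT_pow_add (a b : S) (e : ℕ)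
    (H0 : FibLT (algebraMap R S) Set.univ (e + 2))
    (H1 : FibLT (hom2 (R := R) a b) Set.univ (e + 1)) :
    ∃ n₀ : ℕ, ∀ n ≥ n₀, FibLT (hom1 (R := R) (a ^ n + b)) Set.univ (e + 1) := by
  classical
  choose s g N hq hgood using exists_good (R := R) a b e H0
  obtain ⟨t, ht⟩ := exists_finite_subcover_constructible
    (fun q : PrimeSpectrum S => (PrimeSpectrum.basicOpen (s q) : Set (PrimeSpectrum S)) ∩
      PrimeSpectrum.zeroLocus {g q})
    (fun q => isOpen_constructible_basicOpen_inter_zeroLocus (s q) (g q))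
    (fun q => ⟨q, hq q⟩)
  refine ⟨t.sup N, fun n hn => ?_⟩
  refine fibLT_of_fibLT_polynomial' (hom1 (R := R) (a ^ n + b)) (hom1_finiteType _) a e
    (FibLT.of_range_le (fun x => hom2_mem_range a b n x) H1) (fun 𝔭 l hl _ => ?_)
  obtain ⟨q₀, hq₀t, hq₀⟩ := ht l.last
  exact hgood q₀ n (le_trans (Finset.le_sup hq₀t) hn) 𝔭 l hq₀ hl

end Groth.Agent.H8.FD
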