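import Mathlib
import Groth.Agent.H8.FD.Main2

/-!
# Ring-level statement of the power-perturbation theorem (helper8)
-/

set_option autoImplicit false
set_option linter.style.haveILetI false
set_option linter.unusedSectionVars false

namespace Groth.Agent.H8.FD

open Polynomial PrimeSpectrum

universe u

theorem forall_ringKrullDim_fiber_le_iff' {A S : Type*} [CommRing A] [CommRing S] (φ : A →+* S)
    (d : ℕ) :
    (∀ P : PrimeSpectrum A, letI := φ.toAlgebra
      ringKrullDim (P.asIdeal.Fiber S) ≤ d) ↔ FibLT φ Set.univ (d + 1) := by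
  letI := φ.toAlgebra
  exact forall_ringKrullDim_fiber_le_iff (R := A) (T := S) d

variable {R S : Type u} [CommRing R] [CommRing S] [Algebra R S] [Algebra.FiniteType R S]

/-- Fibres of `Spec S → Spec R` are at most one more than those of `Spec S → 𝔸¹_R`. -/
theorem fibLT_algebraMap_of_hom1 (a : S) (d : ℕ) (h : FibLT (hom1 (R := R) a) Set.univ (d + 1)) :
    FibLT (algebraMap R S) Set.univ (d + 2) :=
  fibLT_of_fibLT_polynomial' (algebraMap R S) ((RingHom.finiteType_algebraMap).mpr inferInstance)
    a (d + 1) (h.mono (by omega)) (fun _ => h.mono_set (Set.subset_univ _))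

theorem fibLT_hom2_of_hom1 (a b : S) (n : ℕ) (h : FibLT (hom1 (R := R) a) Set.univ n) :
    FibLT (hom2 (R := R) a b) Set.univ n :=
  FibLT.of_range_le (fun f => ⟨C f, by simp⟩) h

/-- **Stacks-type lemma**: if the fibres of `x ↦ a` have dimension `≤ d`, then so do the fibres of
`x ↦ a ^ n + b` for `n ≫ 0`. -/
theorem exists_forall_fibLT_hom1_pow_add (a b : S) (d : ℕ)
    (h : FibLT (hom1 (R := R) a) Set.univ (d + 1)) :
    ∃ n₀ : ℕ, ∀ n ≥ n₀, FibLT (hom1 (R := R) (a ^ n + b)) Set.univ (d + 1) :=
  exists_forall_fibLT_pow_add a b d (fibLT_algebraMap_of_hom1 a d h) (fibLT_hom2_of_hom1 a b _ h)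

end Groth.Agent.H8.FD
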