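import Mathlib
import Groth.Agent.H8.FD.Final

/-!
# Weak relative Noether normalization (helper8)

If all fibres of a finite type `R → S` have dimension `≤ d`, there is a quasi-finite
`R[t₁, …, t_d] → S`.
-/

set_option autoImplicit false
set_option linter.style.haveILetI false
set_option linter.unusedSectionVars false

namespace Groth.Agent.H8.FD

open Polynomial PrimeSpectrum

universe u

section Sub

variable {R S : Type u} [CommRing R] [CommRing S] [Algebra R S]

/-- `FibLT` for the inclusion of a subalgebra. -/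
def SubLT (T : Subalgebra R S) (n : ℕ) : Prop := FibLT T.val.toRingHom Set.univ n

theorem SubLT.mono {T T' : Subalgebra R S} (h : T ≤ T') {n : ℕ} (hT : SubLT T n) : SubLT T' n :=
  FibLT.of_range_le (fun x => ⟨⟨x.1, h x.2⟩, rfl⟩) hT

theorem subLT_of_fibLT {A : Type*} [CommRing A] (φ : A →+* S) (T : Subalgebra R S) {n : ℕ}
    (h : ∀ x, φ x ∈ T) (hφ : FibLT φ Set.univ n) : SubLT T n :=
  FibLT.of_range_le (fun x => ⟨⟨φ x, h x⟩, rfl⟩) hφ

theorem fibLT_of_subLT {A : Type*} [CommRing A] (φ : A →+* S) (T : Subalgebra R S) {n : ℕ}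
    (h : ∀ x ∈ T, x ∈ Set.range φ) (hT : SubLT T n) : FibLT φ Set.univ n :=
  FibLT.of_range_le (fun x => h x.1 x.2) hT

theorem subLT_top : SubLT (⊤ : Subalgebra R S) 1 := by
  intro l _ hc
  by_contra hlen
  have hpos : 0 < l.length := by omega
  have hlt : l 0 < l ⟨1, by omega⟩ := l.strictMono (by
    rw [Fin.lt_def]; simp)
  have hinj : Function.Injective (PrimeSpectrum.comap (⊤ : Subalgebra R S).val.toRingHom) :=
    PrimeSpectrum.comap_injective_of_surjective _ (fun x => ⟨⟨x, Algebra.mem_top⟩, rfl⟩)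
  exact hlt.ne (hinj (hc _ _))

variable [Algebra.FiniteType R S]

/-- merging two elements into one -/
theorem exists_subLT_merge (s : Set S) (a b : S) (d : ℕ)
    (H0 : FibLT (algebraMap R S) Set.univ (d + 2))
    (H1 : SubLT (Algebra.adjoin R (s ∪ {a, b})) (d + 1)) :
    ∃ c : S, SubLT (Algebra.adjoin R (s ∪ {c})) (d + 1) := by
  haveI : Algebra.FiniteType (Algebra.adjoin R s) S :=
    Algebra.FiniteType.of_restrictScalars_finiteType R (Algebra.adjoin R s) S
  have H0' : FibLT (algebraMap (Algebra.adjoin R s) S) Set.univ (d + 2) :=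
    FibLT.of_range_le (fun r => ⟨algebraMap R (Algebra.adjoin R s) r, rfl⟩) H0
  have H1' : FibLT (hom2 (R := Algebra.adjoin R s) a b) Set.univ (d + 1) := by
    refine fibLT_of_subLT _ _ (fun x hx => ?_) H1
    induction hx using Algebra.adjoin_induction with
    | mem x hx =>
      rcases hx with hx | hx
      · exact ⟨C (C ⟨x, Algebra.subset_adjoin hx⟩), by simp⟩
      · rcases hx with rfl | hx
        · exact ⟨C X, by simp⟩
        · rw [Set.mem_singleton_iff] at hx
          subst hx
          exact ⟨X, by simp⟩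
    | algebraMap r => exact ⟨C (C (algebraMap R _ r)), by simp⟩
    | add x y _ _ hx hy =>
      obtain ⟨x', rfl⟩ := hx
      obtain ⟨y', rfl⟩ := hy
      exact ⟨x' + y', map_add _ _ _⟩
    | mul x y _ _ hx hy =>
      obtain ⟨x', rfl⟩ := hx
      obtain ⟨y', rfl⟩ := hy
      exact ⟨x' * y', map_mul _ _ _⟩
  obtain ⟨n₀, hn₀⟩ := exists_forall_fibLT_pow_add (R := Algebra.adjoin R s) a b d H0' H1'
  refine ⟨a ^ n₀ + b, subLT_of_fibLT _ _ (fun f => ?_) (hn₀ n₀ le_rfl)⟩
  have hc : a ^ n₀ + b ∈ Algebra.adjoin R (s ∪ {a ^ n₀ + b}) :=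
    Algebra.subset_adjoin (Or.inr rfl)
  induction f using Polynomial.induction_on' with
  | add p q hp hq =>
    rw [map_add]
    exact add_mem hp hq
  | monomial n t =>
    rw [← C_mul_X_pow_eq_monomial, map_mul, map_pow, hom1_C, hom1_X]
    refine mul_mem ?_ (pow_mem hc n)
    exact Algebra.adjoin_mono Set.subset_union_left t.2

theorem exists_subLT_singleton (d : ℕ) (H0 : FibLT (algebraMap R S) Set.univ (d + 2)) :
    ∀ (k : ℕ) (L : List S), L.length = k → ∀ (s : Set S),
      SubLT (Algebra.adjoin R (s ∪ {x | x ∈ L})) (d + 1) →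
      ∃ c : S, SubLT (Algebra.adjoin R (s ∪ {c})) (d + 1) := by
  intro k
  induction k using Nat.strong_induction_on with
  | _ k ih =>
    intro L hL s h
    match L, hL with
    | [], _ =>
      exact ⟨0, h.mono (Algebra.adjoin_mono (by
        intro x hx
        simp only [List.not_mem_nil, Set.ofPred_false, Set.union_empty] at hx
        exact Or.inl hx))⟩
    | [a], _ =>
      refine ⟨a, h.mono (Algebra.adjoin_mono ?_)⟩
      intro x hx
      simpa using hx
    | a :: b :: L', hL =>
      obtain ⟨c, hc⟩ := exists_subLT_merge (s ∪ {x | x ∈ L'}) a b d H0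
        (h.mono (Algebra.adjoin_mono (by
          intro x hx
          simp only [Set.mem_union, Set.mem_ofPred_eq, List.mem_cons, Set.mem_insert_iff,
            Set.mem_singleton_iff] at hx ⊢
          tauto)))
      refine ih (c :: L').length (by simp at hL ⊢; omega) (c :: L') rfl s
        (hc.mono (Algebra.adjoin_mono ?_))
      intro x hx
      simp only [Set.mem_union, Set.mem_ofPred_eq, List.mem_cons, Set.mem_singleton_iff] at hx ⊢
      tauto

/-- **One-variable reduction**: if the fibres of `Spec S → Spec R` have dimension `≤ d + 1`, there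
is `c ∈ S` such that the fibres of `c : Spec S → 𝔸¹_R` have dimension `≤ d`. -/
theorem exists_hom1_fibLT (d : ℕ) (H0 : FibLT (algebraMap R S) Set.univ (d + 2)) :
    ∃ c : S, FibLT (hom1 (R := R) c) Set.univ (d + 1) := by
  classical
  obtain ⟨t, ht⟩ := (Algebra.FiniteType.out : (⊤ : Subalgebra R S).FG)
  obtain ⟨c, hc⟩ := exists_subLT_singleton d H0 _ t.toList rfl ∅ (by
    have : (∅ ∪ {x | x ∈ t.toList} : Set S) = (t : Set S) := by
      ext x; simp
    rw [this, ht]
    exact FibLT.mono (by omega) (subLT_top (R := R) (S := S)))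
  refine ⟨c, fibLT_of_subLT _ _ (fun x hx => ?_) hc⟩
  rw [Set.empty_union] at hx
  induction hx using Algebra.adjoin_induction with
  | mem x hx =>
    rw [Set.mem_singleton_iff] at hx
    subst hx
    exact ⟨X, by simp⟩
  | algebraMap r => exact ⟨C r, by simp⟩
  | add x y _ _ hx hy =>
    obtain ⟨x', rfl⟩ := hx
    obtain ⟨y', rfl⟩ := hy
    exact ⟨x' + y', map_add _ _ _⟩
  | mul x y _ _ hx hy =>
    obtain ⟨x', rfl⟩ := hx
    obtain ⟨y', rfl⟩ := hy
    exact ⟨x' * y', map_mul _ _ _⟩

end Sub

end Groth.Agent.H8.FD
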