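import Mathlib
import Groth.Agent.H8.FD.Noether

/-!
# Weak relative Noether normalization: the induction (helper8)
-/

set_option autoImplicit false
set_option linter.style.haveILetI false
set_option linter.unusedSectionVars false

namespace Groth.Agent.H8.FD

open PrimeSpectrum

universe u

/-- If all fibres of a finite type `R → S` have dimension `≤ d`, there is an `R`-algebra map
`R[t₁, …, t_d] → S` all of whose fibres have dimension `≤ 0`. -/
theorem exists_mvPolynomial_fibLT : ∀ (d : ℕ) (R S : Type u) [CommRing R] [CommRing S]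
    [Algebra R S] [Algebra.FiniteType R S], FibLT (algebraMap R S) Set.univ (d + 1) →
    ∃ φ : MvPolynomial (Fin d) R →ₐ[R] S, FibLT φ.toRingHom Set.univ 1 := by
  intro d
  induction d with
  | zero =>
    intro R S _ _ _ _ h
    refine ⟨MvPolynomial.aeval (fun i => i.elim0), ?_⟩
    exact FibLT.of_range_le (fun r => ⟨MvPolynomial.C r, by simp⟩) h
  | succ d ih =>
    intro R S _ _ _ _ h
    obtain ⟨c, hc⟩ := exists_hom1_fibLT (R := R) (S := S) d h
    letI algX : Algebra (Polynomial R) S := (hom1 (R := R) c).toAlgebra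
    haveI : Algebra.FiniteType (Polynomial R) S := hom1_finiteType c
    have halg : ∀ f : Polynomial R, algebraMap (Polynomial R) S f = hom1 (R := R) c f :=
      fun f => rfl
    obtain ⟨φ', hφ'⟩ := ih (Polynomial R) S hc
    let φ : MvPolynomial (Fin (d + 1)) R →ₐ[R] S :=
      MvPolynomial.aeval (Fin.cons c (fun i => φ' (MvPolynomial.X i)))
    have hφ0 : φ (MvPolynomial.X 0) = c := by simp [φ]
    have hφs : ∀ i : Fin d, φ (MvPolynomial.X i.succ) = φ' (MvPolynomial.X i) := by
      intro i; simp [φ]
    have hpoly : ∀ f : Polynomial R, hom1 (R := R) c f ∈ φ.range := by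
      intro f
      rw [AlgHom.mem_range]
      refine ⟨Polynomial.aeval (MvPolynomial.X 0) f, ?_⟩
      rw [← Polynomial.aeval_algHom_apply, hφ0, hom1_eq_aeval]
      rfl
    have hall : ∀ x, φ' x ∈ φ.range := by
      intro x
      induction x using MvPolynomial.induction_on with
      | C f =>
        rw [MvPolynomial.algHom_C, halg]
        exact hpoly f
      | add p q hp hq =>
        rw [map_add]
        exact add_mem hp hq
      | mul_X p i hp =>
        rw [map_mul]
        exact mul_mem hp ((AlgHom.mem_range φ).mpr ⟨MvPolynomial.X i.succ, hφs i⟩)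
    exact ⟨φ, FibLT.of_range_le (fun x => (AlgHom.mem_range φ).mp (hall x)) hφ'⟩

/-- Fibres of dimension `≤ 0` for a finite type algebra means quasi-finite. -/
theorem quasiFinite_of_fibLT_one {A S : Type*} [CommRing A] [CommRing S] (φ : A →+* S)
    (hft : φ.FiniteType) (h : FibLT φ Set.univ 1) : φ.QuasiFinite := by
  letI := φ.toAlgebra
  haveI : Algebra.FiniteType A S := hft
  have hdim := (forall_ringKrullDim_fiber_le_iff (R := A) (T := S) 0).mpr h
  show Algebra.QuasiFinite A S
  refine ⟨fun P _ => ?_⟩
  rw [Module.finite_iff_isArtinianRing, isArtinianRing_iff_isNoetherianRing_krullDimLE_zero]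
  refine ⟨Algebra.FiniteType.isNoetherianRing P.ResidueField _, ?_⟩
  rw [Ring.krullDimLE_iff]
  exact_mod_cast hdim ⟨P, inferInstance⟩

/-- **Weak relative Noether normalization.** -/
theorem exists_quasiFinite_mvPolynomial (d : ℕ) (R S : Type u) [CommRing R] [CommRing S]
    [Algebra R S] [Algebra.FiniteType R S]
    (h : ∀ p : PrimeSpectrum R, ringKrullDim (p.asIdeal.Fiber S) ≤ d) :
    ∃ φ : MvPolynomial (Fin d) R →ₐ[R] S, φ.toRingHom.QuasiFinite := by
  obtain ⟨φ, hφ⟩ := exists_mvPolynomial_fibLT d R S
    ((forall_ringKrullDim_fiber_le_iff (R := R) (T := S) d).mp h)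
  refine ⟨φ, quasiFinite_of_fibLT_one _ ?_ hφ⟩
  apply RingHom.FiniteType.of_comp_finiteType (f := algebraMap R (MvPolynomial (Fin d) R))
  rw [AlgHom.toRingHom_eq_coe, φ.comp_algebraMap]
  exact (RingHom.finiteType_algebraMap).mpr inferInstance

end Groth.Agent.H8.FD
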